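import Mathlib.RingTheory.MvPolynomial.Homogeneous
import Mathlib.LinearAlgebra.Dual.Defs
import Mathlib.LinearAlgebra.Basis.VectorSpace
import Mathlib.RingTheory.Ideal.Maps
import Mathlib.Tactic

/-!
# Quadrics on finite schemes whose linear span has codimension at most one
-/

set_option autoImplicit false
universe u v w

namespace CodimOneRestrLib

open MvPolynomial

variable {k : Type u} [Field k] {σ : Type v} {R : Type w} [CommRing R] [Algebra k R]

/-- If the linear forms span a subspace of codimension at most one and every element comes from forms of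
all large degrees, then the quadratic forms give everything. -/
theorem surjective_two (ψ : MvPolynomial σ k →ₐ[k] R) (v : R)
    (hv : ∀ t : R, ∃ a : MvPolynomial σ k, a.IsHomogeneous 1 ∧ ∃ c : k, t = ψ a + c • v)
    (hs : ∀ t : R, ∃ L : ℕ, ∀ d, L ≤ d → ∃ a : MvPolynomial σ k, a.IsHomogeneous d ∧ ψ a = t) (t : R) :
    ∃ a : MvPolynomial σ k, a.IsHomogeneous 2 ∧ ψ a = t := by
  let W : Submodule k R := (homogeneousSubmodule σ k 2).map ψ.toLinearMap
  by_contra hne
  have htW : t ∉ W := fun ⟨a, ha, e⟩ => hne ⟨a, ha, e⟩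
  obtain ⟨φ, hφt, hφW⟩ := Submodule.exists_le_ker_of_notMem htW
  have h2 : ∀ a b : MvPolynomial σ k, a.IsHomogeneous 1 → b.IsHomogeneous 1 → φ (ψ a * ψ b) = 0 := fun a b ha hb =>
    hφW ⟨a * b, ha.mul hb, map_mul ψ a b⟩
  let J : Ideal R :=
    { carrier := {a | ∀ r, φ (a * r) = 0}
      zero_mem' := fun r => by simp
      add_mem' := fun {a b} ha hb r => by rw [add_mul, map_add, ha, hb, add_zero]
      smul_mem' := fun c a ha r => by rw [smul_eq_mul, mul_comm c a, mul_assoc]; exact ha _ }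
  -- membership in `J` is detected by `φ (· * v)` on linear forms
  have hJ : ∀ a : MvPolynomial σ k, a.IsHomogeneous 1 → φ (ψ a * v) = 0 → ψ a ∈ J := by
    intro a ha h r
    obtain ⟨b, hb, c, rfl⟩ := hv r
    rw [mul_add, map_add, h2 a b ha hb, mul_smul_comm, map_smul, h, smul_zero, add_zero]
  obtain ⟨a₀, ha₀, hspan⟩ : ∃ a₀ : MvPolynomial σ k, a₀.IsHomogeneous 1 ∧
      ∀ a : MvPolynomial σ k, a.IsHomogeneous 1 → ∃ c : k, ψ a - c • ψ a₀ ∈ J := by
    by_cases h : ∀ a : MvPolynomial σ k, a.IsHomogeneous 1 → ψ a ∈ J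
    · exact ⟨0, isHomogeneous_zero _ _ _, fun a ha => ⟨0, by simpa using h a ha⟩⟩
    · push Not at h
      obtain ⟨a₀, ha₀, hne⟩ := h
      have h0 : φ (ψ a₀ * v) ≠ 0 := fun e => hne (hJ a₀ ha₀ e)
      refine ⟨a₀, ha₀, fun a ha => ⟨φ (ψ a * v) / φ (ψ a₀ * v), ?_⟩⟩
      have h1 := hJ (a - (φ (ψ a * v) / φ (ψ a₀ * v)) • a₀) (ha.sub (by
        simpa [smul_eq_C_mul] using (isHomogeneous_C σ (φ (ψ a * v) / φ (ψ a₀ * v))).mul ha₀)) (by
        rw [map_sub, map_smul, sub_mul, map_sub, smul_mul_assoc, map_smul, smul_eq_mul, div_mul_cancel₀ _ h0, sub_self])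
      rwa [map_sub, map_smul] at h1
  let q := Ideal.Quotient.mkₐ k J
  let α : R ⧸ J := q (ψ a₀)
  have hX : ∀ i, ∃ c : k, q (ψ (X i)) = c • α := fun i => by
    obtain ⟨c, hc⟩ := hspan (X i) (isHomogeneous_X k i)
    refine ⟨c, ?_⟩
    rw [← map_smul q, ← sub_eq_zero, ← map_sub]
    exact Ideal.Quotient.eq_zero_iff_mem.mpr hc
  choose c hc using hX
  have hq : ∀ (d : ℕ) (a : MvPolynomial σ k), a.IsHomogeneous d → ∃ e : k, q (ψ a) = e • α ^ d := by
    intro d a ha
    have he : q.comp ψ = MvPolynomial.aeval fun i => c i • α := algHom_ext fun i => by simp [hc]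
    refine ⟨∑ m ∈ a.support, a.coeff m * ∏ i ∈ m.support, c i ^ m i, ?_⟩
    rw [← AlgHom.comp_apply, he, aeval_def, eval₂_eq, Finset.sum_smul]
    refine Finset.sum_congr rfl fun m hm => ?_
    have hd : ∑ i ∈ m.support, m i = d := by
      have := ha (mem_support_iff.mp hm)
      simpa [Finsupp.weight_apply, Finsupp.sum] using this
    simp only [Algebra.smul_def, map_mul, map_prod, map_pow, mul_pow]
    rw [Finset.prod_mul_distrib, Finset.prod_pow_eq_pow_sum, hd]
    ring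
  obtain ⟨L₁, hL₁⟩ := hs 1
  obtain ⟨L₂, hL₂⟩ := hs v
  obtain ⟨L₃, hL₃⟩ := hs (ψ a₀)
  obtain ⟨b₁, hb₁, e₁⟩ := hL₁ (L₁ + L₂ + L₃) (by omega)
  obtain ⟨b₂, hb₂, e₂⟩ := hL₂ (L₁ + L₂ + L₃) (by omega)
  obtain ⟨b₃, hb₃, e₃⟩ := hL₃ (L₁ + L₂ + L₃) (by omega)
  obtain ⟨f₁, g₁⟩ := hq _ _ hb₁
  obtain ⟨f₂, g₂⟩ := hq _ _ hb₂
  obtain ⟨f₃, g₃⟩ := hq _ _ hb₃
  rw [e₁, map_one] at g₁
  rw [e₂] at g₂
  rw [e₃] at g₃
  have hall : ∀ r, ∃ e : k, q r = e • (1 : R ⧸ J) := by
    have hf : f₁ ≠ 0 ∨ (1 : R ⧸ J) = 0 := by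
      by_cases h : f₁ = 0
      · exact .inr (by rw [g₁, h, zero_smul])
      · exact .inl h
    intro r
    rcases hf with hf | h0
    · have hp : α ^ (L₁ + L₂ + L₃) = f₁⁻¹ • (1 : R ⧸ J) := by rw [g₁, smul_smul, inv_mul_cancel₀ hf, one_smul]
      obtain ⟨b, hb, e, rfl⟩ := hv r
      obtain ⟨e', he'⟩ := hspan b hb
      refine ⟨e' * (f₃ * f₁⁻¹) + e * (f₂ * f₁⁻¹), ?_⟩
      have h4 : q (ψ b) = e' • α := by
        rw [← map_smul q, ← sub_eq_zero, ← map_sub]
        exact Ideal.Quotient.eq_zero_iff_mem.mpr he'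
      change q (ψ b + e • v) = _
      rw [map_add, map_smul, h4, show α = q (ψ a₀) from rfl, g₂, g₃, hp, smul_smul, smul_smul, smul_smul, smul_smul, ← add_smul]
      simp only [mul_assoc]
    · exact ⟨0, by rw [zero_smul, ← mul_one (q r), h0, mul_zero]⟩
  have hφ1 : φ 1 = 0 := by
    -- some linear form is a unit modulo `J`
    obtain ⟨e, he⟩ := hall (ψ a₀)
    by_cases h0 : e = 0
    · have h5 : (1 : R ⧸ J) = 0 := by
        obtain ⟨L, hL⟩ := hs 1
        obtain ⟨b, hb, eb⟩ := hL (L + 1) (by omega)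
        obtain ⟨f, hf⟩ := hq _ _ hb
        rw [eb, map_one, show α = q (ψ a₀) from rfl, he, h0, zero_smul, zero_pow (by omega), smul_zero] at hf
        exact hf
      have h6 : (1 : R) ∈ J := Ideal.Quotient.eq_zero_iff_mem.mp h5
      simpa using h6 1
    · have hb : ψ a₀ - algebraMap k R e ∈ J := by
        rw [← Ideal.Quotient.eq_zero_iff_mem]
        change q (ψ a₀ - algebraMap k R e) = 0
        rw [map_sub, he, AlgHom.commutes, Algebra.algebraMap_eq_smul_one, sub_self]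
      have h7 := hb (ψ a₀)
      rw [sub_mul, map_sub, h2 a₀ a₀ ha₀ ha₀, ← Algebra.smul_def, map_smul] at h7
      have h8 : φ (ψ a₀) = 0 := by simpa [h0] using h7
      have h9 := hb 1
      rw [mul_one, map_sub, h8, Algebra.algebraMap_eq_smul_one, map_smul] at h9
      simpa [h0] using h9
  obtain ⟨e, he⟩ := hall t
  have hm : t - algebraMap k R e ∈ J := by
    rw [← Ideal.Quotient.eq_zero_iff_mem]
    change q (t - algebraMap k R e) = 0
    rw [map_sub, he, AlgHom.commutes, Algebra.algebraMap_eq_smul_one, sub_self]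
  have h10 := hm 1
  rw [mul_one, map_sub, Algebra.algebraMap_eq_smul_one, map_smul, hφ1, smul_zero, sub_zero] at h10
  exact hφt h10

end CodimOneRestrLib
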