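import Groth.Agent.CodimOneRestrLib.Alg
import Groth.Agent.ProjSecLib.Gamma
import Groth.Agent.AmpleDevLib.Pull
import Groth.Agent.TwistLib.ProjSymExt
import Groth.Agent.PnCohLib.HypSec

/-!
# Dehomogenisation on finite subschemes of projective space
-/

set_option autoImplicit false
set_option linter.style.haveILetI false
set_option linter.unusedSectionVars false
set_option backward.isDefEq.respectTransparency false
set_option backward.isDefEq.respectTransparency.types false

universe u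

open CategoryTheory CategoryTheory.Limits AlgebraicGeometry TopologicalSpace Opposite MvPolynomial
open GradedCechLib (deh deh₀)
open AmpleLib (res res_res res_smul GenOn)
open KFlatLib (pb puSec)

noncomputable section

namespace CodimOneRestrLib

variable {k : Type u} [Field k] {N : ℕ}

local notation "P" => CohB1.ProjSpace N k
local notation "𝒮" => CohB1.polyGrading N k
local notation "D" => QCohLib.stdOpen N k
local notation "Poly" => MvPolynomial (Fin (N + 1)) k

lemma deh₀_eq_mk (j : Fin (N + 1)) {d : ℕ} {a : Poly} (ha : a ∈ 𝒮 d) :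
    deh₀ N k j a = HomogeneousLocalization.Away.mk 𝒮 (GradedCechLib.X_mem N k j) d a
      (by rwa [smul_eq_mul, mul_one]) := by
  refine HomogeneousLocalization.val_injective _ ?_
  rw [GradedCechLib.val_deh₀_homogeneous N k j a d ((mem_homogeneousSubmodule _ _).1 ha),
    HomogeneousLocalization.Away.val_mk]
  rfl

lemma basicOpen_deh (j : Fin (N + 1)) {d : ℕ} {a : Poly} (ha : a ∈ 𝒮 d) :
    Scheme.basicOpen P (deh N k j a) = D j ⊓ Proj.basicOpen 𝒮 a := by
  rw [deh, RingHom.comp_apply, deh₀_eq_mk j ha]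
  exact (GrTildeLib.basicOpen_awayToSection (GradedCechLib.X_mem N k j) one_pos _).trans (Proj.basicOpen_mul _ _ _)

/-- The power of a coordinate. -/
def xp (j : Fin (N + 1)) (d : ℕ) : 𝒮 d :=
  ⟨X j ^ d, by simpa using SetLike.pow_mem_graded d (GradedCechLib.X_mem N k j)⟩

/-- `a = (a / x_j^d) x_j^d` on the chart. -/
theorem deh_smul_globalOf (j : Fin (N + 1)) {d : ℕ} (a : 𝒮 d) :
    (deh N k j (a : Poly)) •
      res (Twist.twist 𝒮 (d : ℤ)) (le_top : D j ≤ ⊤) (Twist.globalOf 𝒮 (xp j d)) =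
      res (Twist.twist 𝒮 (d : ℤ)) (le_top : D j ≤ ⊤) (Twist.globalOf 𝒮 a) := by
  refine TwistLib.sec_ext fun x => ?_
  rw [TwistLib.val_smul, TwistLib.val_res, TwistLib.val_res]
  have h : ((show Twist.O (op (D j)) from deh N k j (a : Poly)).1 x).val =
      Localization.mk (a : Poly) ⟨X j ^ d, GrTildeLib.pow_nin x d⟩ := by
    rw [deh, RingHom.comp_apply, deh₀_eq_mk j a.2]
    exact GrTildeLib.val_awayToSection (GradedCechLib.X_mem N k j) _ x
  rw [h]
  show Localization.mk _ _ * Localization.mk _ _ = Localization.mk _ _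
  rw [Localization.mk_mul, Localization.mk_eq_mk_iff, Localization.r_iff_exists]
  exact ⟨1, by simp [xp, mul_comm]⟩

theorem globalOf_xp_genOn (j : Fin (N + 1)) (d : ℕ) :
    GenOn (Twist.twist 𝒮 (d : ℤ)) (res (Twist.twist 𝒮 (d : ℤ)) (le_top : D j ≤ ⊤) (Twist.globalOf 𝒮 (xp j d))) :=
  TwistLib.Unit'.genOn ⟨d, 0, X j ^ d, 1, (xp j d).2, SetLike.GradedOne.one_mem, by simp,
    fun x h => (Proj.mem_basicOpen _ _ _).mp x.2 (x.1.isPrime.mem_of_pow_mem d h),
    fun x h => x.1.isPrime.ne_top ((Ideal.eq_top_iff_one _).mpr h)⟩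

/-- A form vanishing at one closed point and not at another. -/
theorem exists_form {x y : P} (hy : IsClosed ({y} : Set P)) (hne : x ≠ y) :
    ∃ (d : ℕ) (a : Poly), a ∈ 𝒮 d ∧ x ∈ Proj.basicOpen 𝒮 a ∧ y ∉ Proj.basicOpen 𝒮 a := by
  classical
  by_contra h
  push Not at h
  apply hne
  have hle : (show ProjectiveSpectrum 𝒮 from y) ≤ (show ProjectiveSpectrum 𝒮 from x) := by
    intro a ha
    rw [← DirectSum.sum_support_decompose 𝒮 a]
    refine Ideal.sum_mem _ fun d _ => ?_
    by_contra hx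
    exact h d _ (DirectSum.decompose 𝒮 a d).2 hx (y.asHomogeneousIdeal.isHomogeneous d ha)
  have hmem : x ∈ closure ({y} : Set P) := (ProjectiveSpectrum.le_iff_mem_closure _ _ _).mp hle
  rwa [hy.closure_eq] at hmem

variable {S : Scheme.{u}} (ι : S ⟶ CohB1.ProjSpace N k)

/-- A chart around the image of a point. -/
def chart (z : S) : Fin (N + 1) := (ProjSecLib.cover (R := k) (n := N) (ι.base z)).choose

lemma chart_spec (z : S) : ι z ∈ D (chart ι z) := (ProjSecLib.cover (R := k) (ι z)).choose_spec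

variable [DiscreteTopology S]

/-- A point as an open. -/
def W (z : S) : S.Opens := ⟨{z}, isOpen_discrete _⟩

lemma W_le (z : S) : W z ≤ ι ⁻¹ᵁ D (chart ι z) := fun w hw => by
  obtain rfl : w = z := hw
  exact chart_spec ι w

/-- The functions on the points. -/
abbrev R (S : Scheme.{u}) [DiscreteTopology S] : Type u := ∀ z : S, Γ(S, W z)

/-- Forms as functions at a point. -/
def dz (z : S) : Poly →+* Γ(S, W z) :=
  (ι.appLE (D (chart ι z)) (W z) (W_le ι z)).hom.comp (deh N k (chart ι z))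

lemma dz_X_chart (z : S) : dz ι z (X (chart ι z)) = 1 := by
  rw [dz, RingHom.comp_apply, GradedCechLib.deh_X_self, map_one]

/-- Forms as functions on the finite scheme. -/
def dd : Poly →+* R S := RingHom.pi fun z => dz ι z

@[simp] lemma dd_apply (a : Poly) (z : S) : dd ι a z = dz ι z a := rfl

/-- Scalars. -/
@[reducible] def algR : Algebra k (R S) := ((dd ι).comp MvPolynomial.C).toAlgebra

theorem eq_of_res {M : S.Modules} {t t' : Γ(M, ⊤)}
    (h : ∀ z, res M (le_top : W z ≤ ⊤) t = res M (le_top : W z ≤ ⊤) t') : t = t' :=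
  TopCat.Sheaf.eq_of_locally_eq' ⟨M.presheaf, M.isSheaf⟩ W ⊤ (fun z => homOfLE le_top)
    (fun x _ => Opens.mem_iSup.mpr ⟨x, rfl⟩) t t' h

theorem exists_glue (M : S.Modules) (x : ∀ z : S, Γ(M, W z)) :
    ∃ t : Γ(M, ⊤), ∀ z, res M (le_top : W z ≤ ⊤) t = x z := by
  obtain ⟨t, ht, -⟩ := TopCat.Sheaf.existsUnique_gluing' (F := ⟨M.presheaf, M.isSheaf⟩) W ⊤
    (fun z => homOfLE le_top) (fun y _ => Opens.mem_iSup.mpr ⟨y, rfl⟩) x (fun a b => by
      by_cases h : a = b
      · subst h; rfl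
      · have hbot : W a ⊓ W b = ⊥ := by
          ext y
          simp only [W, Opens.coe_inf, Set.mem_inter_iff, Opens.coe_mk, Set.mem_singleton_iff, Opens.coe_bot,
            Set.mem_empty_iff_false, iff_false]
          rintro ⟨rfl, rfl⟩
          exact h rfl
        refine TopCat.Sheaf.eq_of_locally_eq' ⟨M.presheaf, M.isSheaf⟩ (fun e : PEmpty.{u + 1} => e.elim) _
          (fun e => e.elim) ?_ _ _ (fun e => e.elim)
        rw [hbot]; exact bot_le)
  exact ⟨t, ht⟩

theorem dz_surjective [IsClosedImmersion ι] (z : S) : Function.Surjective (dz ι z) := by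
  classical
  intro u
  obtain ⟨g, hg⟩ := exists_glue (Coh.structureModule S) (Function.update 0 z u)
  let V := ι ⁻¹ᵁ D (chart ι z)
  obtain ⟨q, hq⟩ := ι.app_surjective (D (chart ι z))
    (Proj.isAffineOpen_basicOpen 𝒮 _ (GradedCechLib.X_mem N k _) one_pos)
    (S.presheaf.map (homOfLE (le_top : V ≤ ⊤)).op g)
  obtain ⟨p, rfl⟩ := GradedCechLib.deh_surjective N k (chart ι z) q
  refine ⟨p, ?_⟩
  rw [dz, RingHom.comp_apply, Scheme.Hom.appLE, CommRingCat.hom_comp, RingHom.comp_apply]
  erw [hq]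
  refine (QCohLib.ringMap_map' (homOfLE (W_le ι z)) (homOfLE le_top) g).trans ?_
  exact (hg z).trans (Function.update_self ..)

theorem isUnit_dz (z : S) {d : ℕ} {a : Poly} (ha : a ∈ 𝒮 d) (hz : ι z ∈ Proj.basicOpen 𝒮 a) :
    IsUnit (dz ι z a) := by
  have hle : W z ≤ S.basicOpen (ι.app (D (chart ι z)) (deh N k (chart ι z) a)) := by
    intro w hw
    obtain rfl : w = z := hw
    rw [← Scheme.preimage_basicOpen, basicOpen_deh _ ha]
    exact ⟨chart_spec ι w, hz⟩
  exact QCohLib.isUnit_res _ hle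

theorem isNilpotent_dz (z : S) {d : ℕ} {a : Poly} (ha : a ∈ 𝒮 d) (hz : ι z ∉ Proj.basicOpen 𝒮 a) :
    IsNilpotent (dz ι z a) := by
  refine (Scheme.isNilpotent_iff_basicOpen_eq_bot_of_isCompact (show IsCompact (W z : Set S) from isCompact_singleton) _).mpr ?_
  refine eq_bot_iff.mpr fun w hw => ?_
  rw [dz, RingHom.comp_apply, Scheme.basicOpen_appLE, basicOpen_deh _ ha] at hw
  obtain ⟨hw1, -, hw2⟩ := hw
  obtain rfl : w = z := hw1
  exact absurd hw2 hz

/-- A form concentrated at one point. -/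
theorem exists_bump [IsClosedImmersion ι] [Finite S] (z : S) :
    ∃ (m : ℕ) (e : Poly), e.IsHomogeneous m ∧ IsUnit (dz ι z e) ∧ ∀ w, w ≠ z → dz ι w e = 0 := by
  classical
  let := Fintype.ofFinite S
  have h : ∀ w : S, w ≠ z → ∃ (d : ℕ) (a : Poly), a.IsHomogeneous d ∧ IsUnit (dz ι z a) ∧ dz ι w a = 0 := by
    intro w hw
    obtain ⟨d, a, ha, h1, h2⟩ := exists_form (x := ι z) (y := ι w)
      (by simpa using ι.isClosedEmbedding.isClosedMap _ (isClosed_discrete ({w} : Set S)))
      (fun e => hw (ι.isClosedEmbedding.injective e).symm)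
    obtain ⟨n, hn⟩ := isNilpotent_dz ι w ha h2
    refine ⟨d * n, a ^ n, ((mem_homogeneousSubmodule _ _).1 ha).pow n, ?_, by rw [map_pow, hn]⟩
    rw [map_pow]
    exact (isUnit_dz ι z ha h1).pow n
  choose! d a ha hu h0 using h
  refine ⟨∑ w ∈ Finset.univ.erase z, d w, ∏ w ∈ Finset.univ.erase z, a w,
    IsHomogeneous.prod _ _ _ fun w hw => ha w (Finset.ne_of_mem_erase hw), ?_, fun w hw => ?_⟩
  · rw [map_prod]
    exact IsUnit.prod_iff.mpr fun w hw => hu w (Finset.ne_of_mem_erase hw)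
  · rw [map_prod]
    exact Finset.prod_eq_zero (Finset.mem_erase.mpr ⟨hw, Finset.mem_univ w⟩) (h0 w hw)

/-- Every function is a form of every large degree. -/
theorem exists_forms [IsClosedImmersion ι] [Finite S] (t : R S) :
    ∃ L : ℕ, ∀ d, L ≤ d → ∃ a : Poly, a.IsHomogeneous d ∧ dd ι a = t := by
  classical
  let := Fintype.ofFinite S
  choose m e he hu h0 using exists_bump ι
  choose p hp using fun z => dz_surjective ι z (↑(hu z).unit⁻¹ * t z)
  refine ⟨Finset.univ.sup fun z => m z + (p z).totalDegree, fun d hd => ?_⟩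
  let h : S → Poly := fun z => ∑ l ∈ Finset.range ((p z).totalDegree + 1),
    homogeneousComponent l (p z) * X (chart ι z) ^ (d - m z - l)
  have hdz : ∀ z, dz ι z (h z) = dz ι z (p z) := fun z => by
    rw [map_sum]
    simp only [map_mul, map_pow, dz_X_chart, one_pow, mul_one]
    rw [← map_sum, sum_homogeneousComponent]
  refine ⟨∑ z, e z * h z, IsHomogeneous.sum _ _ _ fun z _ => ?_, funext fun w => ?_⟩
  · have hz := (Finset.le_sup (f := fun z => m z + (p z).totalDegree) (Finset.mem_univ z)).trans hd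
    have hh : (h z).IsHomogeneous (d - m z) := IsHomogeneous.sum _ _ _ fun l hl => by
      have hl' := Finset.mem_range.mp hl
      have := (homogeneousComponent_isHomogeneous l (p z)).mul ((isHomogeneous_X k (chart ι z)).pow (d - m z - l))
      rwa [one_mul, show l + (d - m z - l) = d - m z by omega] at this
    have := (he z).mul hh
    rwa [show m z + (d - m z) = d by omega] at this
  · rw [dd_apply, map_sum, Finset.sum_eq_single w (fun z _ hz => by rw [map_mul, h0 z w (Ne.symm hz), zero_mul])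
      (fun h => absurd (Finset.mem_univ w) h), map_mul, hdz, hp, ← mul_assoc, IsUnit.mul_val_inv, one_mul]

/-- The coordinate of a section of `O(n)` at the points. -/
def gen (d : ℕ) (z : S) : Γ(pb ι (Twist.twistProjSpace N k (d : ℤ)), W z) :=
  res (pb ι (Twist.twistProjSpace N k (d : ℤ))) (W_le ι z)
    (puSec ι (res (Twist.twistProjSpace N k (d : ℤ)) (le_top : D (chart ι z) ≤ ⊤) (Twist.globalOf 𝒮 (xp (chart ι z) d))))

theorem gen_genOn (d : ℕ) (z : S) : GenOn _ (gen ι d z) :=
  (AmpleDevLib.puSec_genOn ι (globalOf_xp_genOn (chart ι z) d)).res _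

/-- `t` has coordinates `r`. -/
def Coor (d : ℕ) (t : Γ(pb ι (Twist.twistProjSpace N k (d : ℤ)), ⊤)) (r : R S) : Prop :=
  ∀ z, res _ (le_top : W z ≤ ⊤) t = r z • gen ι d z

theorem exists_coor (d : ℕ) (t : Γ(pb ι (Twist.twistProjSpace N k (d : ℤ)), ⊤)) : ∃ r, Coor ι d t r := by
  have h : ∀ z, ∃ c : Γ(S, W z), c • gen ι d z = res _ (le_top : W z ≤ ⊤) t := fun z => by
    obtain ⟨c, hc⟩ := (gen_genOn ι d z _ le_rfl).2 (res _ (le_top : W z ≤ ⊤) t)
    rw [AmpleLib.res_refl] at hc
    exact ⟨c, hc⟩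
  choose c hc using h
  exact ⟨c, fun z => (hc z).symm⟩

theorem exists_of_coor (d : ℕ) (r : R S) : ∃ t, Coor ι d t r :=
  exists_glue _ fun z => r z • gen ι d z

theorem Coor.ext {d : ℕ} {t t' : Γ(pb ι (Twist.twistProjSpace N k (d : ℤ)), ⊤)} {r : R S}
    (h : Coor ι d t r) (h' : Coor ι d t' r) : t = t' :=
  eq_of_res fun z => (h z).trans (h' z).symm

theorem Coor.unique {d : ℕ} {t : Γ(pb ι (Twist.twistProjSpace N k (d : ℤ)), ⊤)} {r r' : R S}
    (h : Coor ι d t r) (h' : Coor ι d t r') : r = r' := funext fun z => (gen_genOn ι d z _ le_rfl).1 (by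
      change r z • res _ _ _ = r' z • res _ _ _
      rw [AmpleLib.res_refl]; exact (h z).symm.trans (h' z))

theorem coor_puSec (d : ℕ) (a : 𝒮 d) :
    Coor ι d (puSec ι (U := ⊤) (show Γ(Twist.twistProjSpace N k (d : ℤ), ⊤) from Twist.globalOf 𝒮 a)) (dd ι (a : Poly)) := by
  intro z
  have hres : res (pb ι (Twist.twistProjSpace N k (d : ℤ))) (W_le ι z)
      (puSec ι (res (Twist.twistProjSpace N k (d : ℤ)) (le_top : D (chart ι z) ≤ ⊤) (Twist.globalOf 𝒮 a))) =
      dz ι z (a : Poly) • gen ι d z := by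
    rw [← show _ = res (Twist.twistProjSpace N k (d : ℤ)) (le_top : D (chart ι z) ≤ ⊤) (Twist.globalOf 𝒮 a) from
      deh_smul_globalOf (chart ι z) a]
    erw [TwistLib.puSec_smul, res_smul]
    rfl
  refine Eq.trans ?_ hres
  erw [TwistLib.puSec_res, res_res]
  rfl

end CodimOneRestrLib
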