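import Groth.Agent.CodimOneRestrLib.Geo

/-!
# Restriction of quadrics to finite subschemes
-/

set_option autoImplicit false
set_option linter.style.haveILetI false
set_option linter.unusedSectionVars false
set_option backward.isDefEq.respectTransparency false
set_option backward.isDefEq.respectTransparency.types false

universe u

open CategoryTheory CategoryTheory.Limits AlgebraicGeometry TopologicalSpace Opposite MvPolynomial
open GradedCechLib (deh)
open AmpleLib (res res_res res_smul)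
open KFlatLib (pb puSec)

noncomputable section

namespace CodimOneRestrLib

variable {k : Type u} [Field k] {N : ℕ} {S : Scheme.{u}} (ι : S ⟶ CohB1.ProjSpace N k)

local notation "𝒮" => CohB1.polyGrading N k

theorem dz_C [DiscreteTopology S] (z : S) (c : k) :
    dz ι z (C c) = S.presheaf.map (homOfLE (le_top : W z ≤ ⊤)).op
      (ι.app ⊤ (Coh.toGlobal (CohB1.ProjSpace.toSpec N k) c)) := by
  rw [dz, RingHom.comp_apply, GradedCechLib.deh_C]
  show (((CohB1.ProjSpace N k).presheaf.map _) ≫ ι.appLE _ _ _).hom (Coh.toGlobal (CohB1.ProjSpace.toSpec N k) c) = _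
  rw [Scheme.Hom.map_appLE, Scheme.Hom.appLE]
  rfl

/-- The statement in terms of pullbacks of sections. -/
theorem surjective_puSec_two [IsClosedImmersion ι] [DiscreteTopology S] [Finite S]
    (v : Γ(pb ι (Twist.twistProjSpace N k 1), ⊤))
    (hv : ∀ t : Γ(pb ι (Twist.twistProjSpace N k 1), ⊤), ∃ (s : Γ(Twist.twistProjSpace N k 1, ⊤)) (c : k),
      t = (show Γ(pb ι (Twist.twistProjSpace N k 1), ⊤) from puSec ι (U := ⊤) s) + (show Γ(S, ⊤) from ι.app ⊤ (Coh.toGlobal (CohB1.ProjSpace.toSpec N k) c)) • v)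
    (t : Γ(pb ι (Twist.twistProjSpace N k 2), ⊤)) :
    ∃ s : Γ(Twist.twistProjSpace N k 2, ⊤), puSec ι (U := ⊤) s = t := by
  letI := algR ι
  let ψ : MvPolynomial (Fin (N + 1)) k →ₐ[k] R S := AlgHom.mk (dd ι) fun _ => rfl
  obtain ⟨rv, hrv⟩ := exists_coor ι 1 v
  obtain ⟨rt, hrt⟩ := exists_coor ι 2 t
  obtain ⟨a, ha, hat⟩ := surjective_two ψ rv (fun r => by
      obtain ⟨t₁, ht₁⟩ := exists_of_coor ι 1 r
      obtain ⟨s, c, e⟩ := hv t₁
      obtain ⟨a, rfl⟩ := ProjSecLib.globalOf_surjective (R := k) (n := N) (d := 1) s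
      refine ⟨a.1, (mem_homogeneousSubmodule _ _).1 a.2, c, Coor.unique ι ht₁ fun z => ?_⟩
      rw [e, AmpleLib.res, map_add]
      change res _ _ _ + res _ _ _ = _
      erw [coor_puSec ι 1 a z, res_smul, hrv z, smul_smul]
      rw [← add_smul, ← dz_C]
      rfl)
    (fun r => exists_forms ι r) rt
  refine ⟨Twist.globalOf 𝒮 ⟨a, (mem_homogeneousSubmodule _ _).2 ha⟩, Coor.ext ι ?_ hrt⟩
  rw [← show dd ι a = rt from hat]
  exact coor_puSec ι 2 ⟨a, _⟩

end CodimOneRestrLib
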